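import Mathlib
import Cfsg.Agent.Lib.Helper10.Co1O.Defs

/-!
helper9: S2069 (`Out(Co1) = 1`, helper10's market) leaf CO5: the conjugation action of `ξ` on eleven sign
changes `W5` and two permutations `P5`, by `decide +kernel` certificates (helper3 `Co1Eval.eq_one_of_chkAll`),
plus separation/rigidity of `W5`, `P5`.  Data: notes/S2069_co5data.json (helper10).
-/

set_option autoImplicit false
set_option maxRecDepth 100000

namespace Cfsg.Agent.Lib.Helper9.Co1Leaf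

open Cfsg
open Cfsg.Agent.Lib.Helper10.Co1O
open Cfsg.Agent.Lib.Helper3.Co1Gens (xiC real_xiC)
open Cfsg.Agent.Lib.Helper3.Golay
open Cfsg.Agent.Lib.Helper14.LeechMono
open Cfsg.Agent.Lib.Helper4.McL
open Cfsg.Agent.Lib.Helper3.Co1Eval

/-- the code word with bit mask `c` -/
def wOf (c : ℕ) (hc : c < 2 ^ 24) (hcc : codeMask (c % 4096) = c) : ↥golayCode :=
  ⟨wordOf c, (wordOf_mem_iff hc).mpr hcc⟩

/-- the element of `M24` with table `T` -/
def sOf (T T' : List ℕ) (h : okInv T T' = true) (h' : okInv T' T = true) (hcode : codeOK T = true) :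
    ↥M24 :=
  ⟨permOfTbl T T' h h', (hasTbl_permOfTbl T T' h h').mem_M24 hcode⟩

theorem real_monoC (T T' : List ℕ) (h : okInv T T' = true) (h' : okInv T' T = true)
    (hcode : codeOK T = true) (c : ℕ) (hc : c < 2 ^ 24) (hcc : codeMask (c % 4096) = c) :
    Real (monoC (sOf T T' h h' hcode) (wOf c hc hcc)).1 [.m T' c] :=
  real_monoT T T' h h' hcode c hc hcc

def idT : List ℕ := [0, 1, 2, 3, 4, 5, 6, 7, 8, 9, 10, 11, 12, 13, 14, 15, 16, 17, 18, 19, 20, 21, 22, 23]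
theorem hidT : okInv idT idT = true := by decide
theorem hidTc : codeOK idT = true := by decide

theorem sOf_idT : sOf idT idT hidT hidT hidTc = 1 := by
  apply Subtype.ext
  apply Equiv.ext
  show ∀ p : GolayPt, pt (idT.getD (idx p) 0) = p
  decide

theorem h0lt : 0 < 2 ^ 24 := by decide
theorem h0c : codeMask (0 % 4096) = 0 := by decide

theorem wOf_zero : wOf 0 h0lt h0c = 0 := Subtype.ext wordOf_zero

theorem xiC_mul_self : xiC * xiC = 1 := by
  apply Subtype.ext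
  exact eq_one_of_chkAll _ (xiC * xiC).2 _ (real_xiC.mul real_xiC) (by decide +kernel)

theorem xiC_inv : xiC⁻¹ = xiC := inv_eq_of_mul_eq_one_right xiC_mul_self

/-- the certificate scheme: `ξ g ξ X = 1` with `X` monomial gives `ξ g ξ⁻¹ ∈ Nt` -/
theorem conj_mem_Nt_of_chk (g : ↥Co0) (ps : List Prim) (hg : Real g.1 ps)
    (T T' : List ℕ) (h : okInv T T' = true) (h' : okInv T' T = true)
    (hcode : codeOK T = true) (c : ℕ) (hc : c < 2 ^ 24) (hcc : codeMask (c % 4096) = c)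
    (hchk : chkAll ((([Prim.x] ++ ps) ++ [Prim.x]) ++ [Prim.m T' c]) 1) :
    xiC * g * xiC⁻¹ ∈ Nt := by
  have h1 : xiC * g * xiC * monoC (sOf T T' h h' hcode) (wOf c hc hcc) = 1 := by
    apply Subtype.ext
    exact eq_one_of_chkAll _ (xiC * g * xiC * monoC (sOf T T' h h' hcode) (wOf c hc hcc)).2 _
      (((real_xiC.mul hg).mul real_xiC).mul (real_monoC T T' h h' hcode c hc hcc)) hchk
  have h2 : xiC * g * xiC⁻¹ = (monoC (sOf T T' h h' hcode) (wOf c hc hcc))⁻¹ := by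
    rw [xiC_inv]
    exact eq_inv_of_mul_eq_one_left h1
  rw [h2]
  exact Nt.inv_mem (monoC_mem_Nt _ _)

/-! word 0 -/
def cW0 : ℕ := 2460752
theorem hcW0 : cW0 < 2 ^ 24 := by decide
theorem hcW0c : codeMask (cW0 % 4096) = cW0 := by decide
def wW0 : ↥golayCode := wOf cW0 hcW0 hcW0c
def TX0 : List ℕ := [0, 1, 2, 3, 16, 5, 21, 19, 12, 20, 15, 18, 8, 22, 14, 10, 4, 17, 11, 7, 9, 6, 13, 23]
def TX0i : List ℕ := [0, 1, 2, 3, 16, 5, 21, 19, 12, 20, 15, 18, 8, 22, 14, 10, 4, 17, 11, 7, 9, 6, 13, 23]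
def cX0 : ℕ := 5780352
theorem hTX0 : okInv TX0 TX0i = true := by decide
theorem hTX0' : okInv TX0i TX0 = true := by decide
theorem hTX0c : codeOK TX0 = true := by decide
theorem hcX0 : cX0 < 2 ^ 24 := by decide
theorem hcX0c : codeMask (cX0 % 4096) = cX0 := by decide
theorem real_eW0 : Real (monoC 1 wW0).1 [.m idT cW0] := by
  rw [← sOf_idT]
  exact real_monoC idT idT hidT hidT hidTc cW0 hcW0 hcW0c
theorem conjW0 : xiC * monoC 1 wW0 * xiC⁻¹ ∈ Nt :=
  conj_mem_Nt_of_chk _ _ real_eW0 TX0 TX0i hTX0 hTX0' hTX0c cX0 hcX0 hcX0c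
    (by decide +kernel)

/-! word 1 -/
def cW1 : ℕ := 11028004
theorem hcW1 : cW1 < 2 ^ 24 := by decide
theorem hcW1c : codeMask (cW1 % 4096) = cW1 := by decide
def wW1 : ↥golayCode := wOf cW1 hcW1 hcW1c
def TX1 : List ℕ := [1, 0, 23, 17, 4, 14, 7, 6, 8, 10, 9, 11, 12, 13, 5, 20, 16, 3, 18, 21, 15, 19, 22, 2]
def TX1i : List ℕ := [1, 0, 23, 17, 4, 14, 7, 6, 8, 10, 9, 11, 12, 13, 5, 20, 16, 3, 18, 21, 15, 19, 22, 2]
def cX1 : ℕ := 1212619
theorem hTX1 : okInv TX1 TX1i = true := by decide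
theorem hTX1' : okInv TX1i TX1 = true := by decide
theorem hTX1c : codeOK TX1 = true := by decide
theorem hcX1 : cX1 < 2 ^ 24 := by decide
theorem hcX1c : codeMask (cX1 % 4096) = cX1 := by decide
theorem real_eW1 : Real (monoC 1 wW1).1 [.m idT cW1] := by
  rw [← sOf_idT]
  exact real_monoC idT idT hidT hidT hidTc cW1 hcW1 hcW1c
theorem conjW1 : xiC * monoC 1 wW1 * xiC⁻¹ ∈ Nt :=
  conj_mem_Nt_of_chk _ _ real_eW1 TX1 TX1i hTX1 hTX1' hTX1c cX1 hcX1 hcX1c
    (by decide +kernel)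

/-! word 2 -/
def cW2 : ℕ := 6915112
theorem hcW2 : cW2 < 2 ^ 24 := by decide
theorem hcW2c : codeMask (cW2 % 4096) = cW2 := by decide
def wW2 : ↥golayCode := wOf cW2 hcW2 hcW2c
def TX2 : List ℕ := [0, 1, 2, 5, 13, 3, 7, 6, 8, 20, 15, 11, 12, 4, 17, 10, 22, 14, 18, 21, 9, 19, 16, 23]
def TX2i : List ℕ := [0, 1, 2, 5, 13, 3, 7, 6, 8, 20, 15, 11, 12, 4, 17, 10, 22, 14, 18, 21, 9, 19, 16, 23]
def cX2 : ℕ := 1204944
theorem hTX2 : okInv TX2 TX2i = true := by decide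
theorem hTX2' : okInv TX2i TX2 = true := by decide
theorem hTX2c : codeOK TX2 = true := by decide
theorem hcX2 : cX2 < 2 ^ 24 := by decide
theorem hcX2c : codeMask (cX2 % 4096) = cX2 := by decide
theorem real_eW2 : Real (monoC 1 wW2).1 [.m idT cW2] := by
  rw [← sOf_idT]
  exact real_monoC idT idT hidT hidT hidTc cW2 hcW2 hcW2c
theorem conjW2 : xiC * monoC 1 wW2 * xiC⁻¹ ∈ Nt :=
  conj_mem_Nt_of_chk _ _ real_eW2 TX2 TX2i hTX2 hTX2' hTX2c cX2 hcX2 hcX2c
    (by decide +kernel)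

/-! word 3 -/
def cW3 : ℕ := 12912836
theorem hcW3 : cW3 < 2 ^ 24 := by decide
theorem hcW3c : codeMask (cW3 % 4096) = cW3 := by decide
def wW3 : ↥golayCode := wOf cW3 hcW3 hcW3c
def TX3 : List ℕ := [1, 0, 23, 3, 13, 5, 7, 6, 12, 9, 10, 18, 8, 4, 14, 15, 22, 17, 11, 21, 20, 19, 16, 2]
def TX3i : List ℕ := [1, 0, 23, 3, 13, 5, 7, 6, 12, 9, 10, 18, 8, 4, 14, 15, 22, 17, 11, 21, 20, 19, 16, 2]
def cX3 : ℕ := 2634003
theorem hTX3 : okInv TX3 TX3i = true := by decide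
theorem hTX3' : okInv TX3i TX3 = true := by decide
theorem hTX3c : codeOK TX3 = true := by decide
theorem hcX3 : cX3 < 2 ^ 24 := by decide
theorem hcX3c : codeMask (cX3 % 4096) = cX3 := by decide
theorem real_eW3 : Real (monoC 1 wW3).1 [.m idT cW3] := by
  rw [← sOf_idT]
  exact real_monoC idT idT hidT hidT hidTc cW3 hcW3 hcW3c
theorem conjW3 : xiC * monoC 1 wW3 * xiC⁻¹ ∈ Nt :=
  conj_mem_Nt_of_chk _ _ real_eW3 TX3 TX3i hTX3 hTX3' hTX3c cX3 hcX3 hcX3c
    (by decide +kernel)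

/-! word 4 -/
def cW4 : ℕ := 705094
theorem hcW4 : cW4 < 2 ^ 24 := by decide
theorem hcW4c : codeMask (cW4 % 4096) = cW4 := by decide
def wW4 : ↥golayCode := wOf cW4 hcW4 hcW4c
def TX4 : List ℕ := [23, 2, 1, 5, 4, 3, 19, 21, 8, 15, 20, 11, 12, 13, 17, 9, 16, 14, 18, 6, 10, 7, 22, 0]
def TX4i : List ℕ := [23, 2, 1, 5, 4, 3, 19, 21, 8, 15, 20, 11, 12, 13, 17, 9, 16, 14, 18, 6, 10, 7, 22, 0]
def cX4 : ℕ := 11535529
theorem hTX4 : okInv TX4 TX4i = true := by decide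
theorem hTX4' : okInv TX4i TX4 = true := by decide
theorem hTX4c : codeOK TX4 = true := by decide
theorem hcX4 : cX4 < 2 ^ 24 := by decide
theorem hcX4c : codeMask (cX4 % 4096) = cX4 := by decide
theorem real_eW4 : Real (monoC 1 wW4).1 [.m idT cW4] := by
  rw [← sOf_idT]
  exact real_monoC idT idT hidT hidT hidTc cW4 hcW4 hcW4c
theorem conjW4 : xiC * monoC 1 wW4 * xiC⁻¹ ∈ Nt :=
  conj_mem_Nt_of_chk _ _ real_eW4 TX4 TX4i hTX4 hTX4' hTX4c cX4 hcX4 hcX4c
    (by decide +kernel)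

/-! word 5 -/
def cW5 : ℕ := 9748745
theorem hcW5 : cW5 < 2 ^ 24 := by decide
theorem hcW5c : codeMask (cW5 % 4096) = cW5 := by decide
def wW5 : ↥golayCode := wOf cW5 hcW5 hcW5c
def TX5 : List ℕ := [23, 2, 1, 14, 4, 17, 6, 7, 18, 10, 9, 12, 11, 13, 3, 20, 16, 5, 8, 19, 15, 21, 22, 0]
def TX5i : List ℕ := [23, 2, 1, 14, 4, 17, 6, 7, 18, 10, 9, 12, 11, 13, 3, 20, 16, 5, 8, 19, 15, 21, 22, 0]
def cX5 : ℕ := 138790
theorem hTX5 : okInv TX5 TX5i = true := by decide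
theorem hTX5' : okInv TX5i TX5 = true := by decide
theorem hTX5c : codeOK TX5 = true := by decide
theorem hcX5 : cX5 < 2 ^ 24 := by decide
theorem hcX5c : codeMask (cX5 % 4096) = cX5 := by decide
theorem real_eW5 : Real (monoC 1 wW5).1 [.m idT cW5] := by
  rw [← sOf_idT]
  exact real_monoC idT idT hidT hidT hidTc cW5 hcW5 hcW5c
theorem conjW5 : xiC * monoC 1 wW5 * xiC⁻¹ ∈ Nt :=
  conj_mem_Nt_of_chk _ _ real_eW5 TX5 TX5i hTX5 hTX5' hTX5c cX5 hcX5 hcX5c
    (by decide +kernel)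

/-! word 6 -/
def cW6 : ℕ := 290352
theorem hcW6 : cW6 < 2 ^ 24 := by decide
theorem hcW6c : codeMask (cW6 % 4096) = cW6 := by decide
def wW6 : ↥golayCode := wOf cW6 hcW6 hcW6c
def TX6 : List ℕ := [0, 1, 2, 17, 13, 14, 6, 7, 12, 10, 9, 18, 8, 4, 5, 20, 22, 3, 11, 19, 15, 21, 16, 23]
def TX6i : List ℕ := [0, 1, 2, 17, 13, 14, 6, 7, 12, 10, 9, 18, 8, 4, 5, 20, 22, 3, 11, 19, 15, 21, 16, 23]
def cX6 : ℕ := 5476616
theorem hTX6 : okInv TX6 TX6i = true := by decide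
theorem hTX6' : okInv TX6i TX6 = true := by decide
theorem hTX6c : codeOK TX6 = true := by decide
theorem hcX6 : cX6 < 2 ^ 24 := by decide
theorem hcX6c : codeMask (cX6 % 4096) = cX6 := by decide
theorem real_eW6 : Real (monoC 1 wW6).1 [.m idT cW6] := by
  rw [← sOf_idT]
  exact real_monoC idT idT hidT hidT hidTc cW6 hcW6 hcW6c
theorem conjW6 : xiC * monoC 1 wW6 * xiC⁻¹ ∈ Nt :=
  conj_mem_Nt_of_chk _ _ real_eW6 TX6 TX6i hTX6 hTX6' hTX6c cX6 hcX6 hcX6c
    (by decide +kernel)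

/-! word 7 -/
def cW7 : ℕ := 304405
theorem hcW7 : cW7 < 2 ^ 24 := by decide
theorem hcW7c : codeMask (cW7 % 4096) = cW7 := by decide
def wW7 : ↥golayCode := wOf cW7 hcW7 hcW7c
def TX7 : List ℕ := [2, 23, 0, 3, 13, 5, 6, 7, 18, 20, 15, 12, 11, 4, 14, 10, 22, 17, 8, 19, 9, 21, 16, 1]
def TX7i : List ℕ := [2, 23, 0, 3, 13, 5, 6, 7, 18, 20, 15, 12, 11, 4, 14, 10, 22, 17, 8, 19, 9, 21, 16, 1]
def cX7 : ℕ := 13703682
theorem hTX7 : okInv TX7 TX7i = true := by decide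
theorem hTX7' : okInv TX7i TX7 = true := by decide
theorem hTX7c : codeOK TX7 = true := by decide
theorem hcX7 : cX7 < 2 ^ 24 := by decide
theorem hcX7c : codeMask (cX7 % 4096) = cX7 := by decide
theorem real_eW7 : Real (monoC 1 wW7).1 [.m idT cW7] := by
  rw [← sOf_idT]
  exact real_monoC idT idT hidT hidT hidTc cW7 hcW7 hcW7c
theorem conjW7 : xiC * monoC 1 wW7 * xiC⁻¹ ∈ Nt :=
  conj_mem_Nt_of_chk _ _ real_eW7 TX7 TX7i hTX7 hTX7' hTX7c cX7 hcX7 hcX7c
    (by decide +kernel)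

/-! word 8 -/
def cW8 : ℕ := 8963210
theorem hcW8 : cW8 < 2 ^ 24 := by decide
theorem hcW8c : codeMask (cW8 % 4096) = cW8 := by decide
def wW8 : ↥golayCode := wOf cW8 hcW8 hcW8c
def TX8 : List ℕ := [2, 23, 0, 14, 4, 17, 21, 19, 8, 20, 15, 11, 12, 13, 3, 10, 16, 5, 18, 7, 9, 6, 22, 1]
def TX8i : List ℕ := [2, 23, 0, 14, 4, 17, 21, 19, 8, 20, 15, 11, 12, 13, 3, 10, 16, 5, 18, 7, 9, 6, 22, 1]
def cX8 : ℕ := 3277413
theorem hTX8 : okInv TX8 TX8i = true := by decide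
theorem hTX8' : okInv TX8i TX8 = true := by decide
theorem hTX8c : codeOK TX8 = true := by decide
theorem hcX8 : cX8 < 2 ^ 24 := by decide
theorem hcX8c : codeMask (cX8 % 4096) = cX8 := by decide
theorem real_eW8 : Real (monoC 1 wW8).1 [.m idT cW8] := by
  rw [← sOf_idT]
  exact real_monoC idT idT hidT hidT hidTc cW8 hcW8 hcW8c
theorem conjW8 : xiC * monoC 1 wW8 * xiC⁻¹ ∈ Nt :=
  conj_mem_Nt_of_chk _ _ real_eW8 TX8 TX8i hTX8 hTX8' hTX8c cX8 hcX8 hcX8c
    (by decide +kernel)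

/-! word 9 -/
def cW9 : ℕ := 3806496
theorem hcW9 : cW9 < 2 ^ 24 := by decide
theorem hcW9c : codeMask (cW9 % 4096) = cW9 := by decide
def wW9 : ↥golayCode := wOf cW9 hcW9 hcW9c
def TX9 : List ℕ := [0, 1, 2, 14, 4, 17, 7, 6, 12, 15, 20, 18, 8, 13, 3, 9, 16, 5, 11, 21, 10, 19, 22, 23]
def TX9i : List ℕ := [0, 1, 2, 14, 4, 17, 7, 6, 12, 15, 20, 18, 8, 13, 3, 9, 16, 5, 11, 21, 10, 19, 22, 23]
def cX9 : ℕ := 314056
theorem hTX9 : okInv TX9 TX9i = true := by decide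
theorem hTX9' : okInv TX9i TX9 = true := by decide
theorem hTX9c : codeOK TX9 = true := by decide
theorem hcX9 : cX9 < 2 ^ 24 := by decide
theorem hcX9c : codeMask (cX9 % 4096) = cX9 := by decide
theorem real_eW9 : Real (monoC 1 wW9).1 [.m idT cW9] := by
  rw [← sOf_idT]
  exact real_monoC idT idT hidT hidT hidTc cW9 hcW9 hcW9c
theorem conjW9 : xiC * monoC 1 wW9 * xiC⁻¹ ∈ Nt :=
  conj_mem_Nt_of_chk _ _ real_eW9 TX9 TX9i hTX9 hTX9' hTX9c cX9 hcX9 hcX9c
    (by decide +kernel)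

/-! word 10 -/
def cW10 : ℕ := 3168928
theorem hcW10 : cW10 < 2 ^ 24 := by decide
theorem hcW10c : codeMask (cW10 % 4096) = cW10 := by decide
def wW10 : ↥golayCode := wOf cW10 hcW10 hcW10c
def TX10 : List ℕ := [0, 1, 2, 17, 4, 14, 19, 21, 18, 20, 15, 12, 11, 13, 5, 10, 16, 3, 8, 6, 9, 7, 22, 23]
def TX10i : List ℕ := [0, 1, 2, 17, 4, 14, 19, 21, 18, 20, 15, 12, 11, 13, 5, 10, 16, 3, 8, 6, 9, 7, 22, 23]
def cX10 : ℕ := 951624
theorem hTX10 : okInv TX10 TX10i = true := by decide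
theorem hTX10' : okInv TX10i TX10 = true := by decide
theorem hTX10c : codeOK TX10 = true := by decide
theorem hcX10 : cX10 < 2 ^ 24 := by decide
theorem hcX10c : codeMask (cX10 % 4096) = cX10 := by decide
theorem real_eW10 : Real (monoC 1 wW10).1 [.m idT cW10] := by
  rw [← sOf_idT]
  exact real_monoC idT idT hidT hidT hidTc cW10 hcW10 hcW10c
theorem conjW10 : xiC * monoC 1 wW10 * xiC⁻¹ ∈ Nt :=
  conj_mem_Nt_of_chk _ _ real_eW10 TX10 TX10i hTX10 hTX10' hTX10c cX10 hcX10 hcX10c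
    (by decide +kernel)

/-! permutation 0 -/
def TP0 : List ℕ := [14, 17, 5, 2, 7, 1, 20, 9, 22, 11, 18, 4, 16, 6, 0, 12, 21, 23, 13, 15, 8, 10, 19, 3]
def TP0i : List ℕ := [14, 5, 3, 23, 11, 2, 13, 4, 20, 7, 21, 9, 15, 18, 0, 19, 12, 1, 10, 22, 6, 16, 8, 17]
theorem hTP0 : okInv TP0 TP0i = true := by decide
theorem hTP0' : okInv TP0i TP0 = true := by decide
theorem hTP0c : codeOK TP0 = true := by decide
def sP0 : ↥M24 := sOf TP0 TP0i hTP0 hTP0' hTP0c
def TY0 : List ℕ := [14, 5, 3, 23, 11, 2, 13, 4, 20, 7, 21, 9, 15, 18, 0, 19, 12, 1, 10, 22, 6, 16, 8, 17]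
def TY0i : List ℕ := [14, 17, 5, 2, 7, 1, 20, 9, 22, 11, 18, 4, 16, 6, 0, 12, 21, 23, 13, 15, 8, 10, 19, 3]
def cY0 : ℕ := 8536111
theorem hTY0 : okInv TY0 TY0i = true := by decide
theorem hTY0' : okInv TY0i TY0 = true := by decide
theorem hTY0c : codeOK TY0 = true := by decide
theorem hcY0 : cY0 < 2 ^ 24 := by decide
theorem hcY0c : codeMask (cY0 % 4096) = cY0 := by decide
theorem real_eP0 : Real (monoC sP0 0).1 [.m TP0i 0] := by
  rw [← wOf_zero]
  exact real_monoC TP0 TP0i hTP0 hTP0' hTP0c 0 h0lt h0c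
theorem conjP0 : xiC * monoC sP0 0 * xiC⁻¹ ∈ Nt :=
  conj_mem_Nt_of_chk _ _ real_eP0 TY0 TY0i hTY0 hTY0' hTY0c cY0 hcY0 hcY0c
    (by decide +kernel)

/-! permutation 1 -/
def TP1 : List ℕ := [14, 5, 17, 22, 19, 4, 9, 10, 0, 11, 18, 23, 1, 21, 13, 8, 7, 16, 2, 20, 12, 15, 6, 3]
def TP1i : List ℕ := [8, 12, 18, 23, 5, 1, 22, 16, 15, 6, 7, 9, 20, 14, 0, 21, 17, 2, 10, 4, 19, 13, 3, 11]
theorem hTP1 : okInv TP1 TP1i = true := by decide
theorem hTP1' : okInv TP1i TP1 = true := by decide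
theorem hTP1c : codeOK TP1 = true := by decide
def sP1 : ↥M24 := sOf TP1 TP1i hTP1 hTP1' hTP1c
def TY1 : List ℕ := [8, 12, 18, 23, 5, 1, 22, 16, 15, 6, 7, 9, 20, 14, 0, 21, 17, 2, 10, 4, 19, 13, 3, 11]
def TY1i : List ℕ := [14, 5, 17, 22, 19, 4, 9, 10, 0, 11, 18, 23, 1, 21, 13, 8, 7, 16, 2, 20, 12, 15, 6, 3]
def cY1 : ℕ := 8657159
theorem hTY1 : okInv TY1 TY1i = true := by decide
theorem hTY1' : okInv TY1i TY1 = true := by decide
theorem hTY1c : codeOK TY1 = true := by decide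
theorem hcY1 : cY1 < 2 ^ 24 := by decide
theorem hcY1c : codeMask (cY1 % 4096) = cY1 := by decide
theorem real_eP1 : Real (monoC sP1 0).1 [.m TP1i 0] := by
  rw [← wOf_zero]
  exact real_monoC TP1 TP1i hTP1 hTP1' hTP1c 0 h0lt h0c
theorem conjP1 : xiC * monoC sP1 0 * xiC⁻¹ ∈ Nt :=
  conj_mem_Nt_of_chk _ _ real_eP1 TY1 TY1i hTY1 hTY1' hTY1c cY1 hcY1 hcY1c
    (by decide +kernel)

/-- CO5: eleven octads -/
def W5 : List ↥golayCode := [wW0, wW1, wW2, wW3, wW4, wW5, wW6, wW7, wW8, wW9, wW10]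
/-- CO5: two permutations -/
def P5 : List ↥M24 := [sP0, sP1]

theorem xi_conj_sign : ∀ w ∈ W5, xiC * monoC 1 w * xiC⁻¹ ∈ Nt := by
  intro w hw
  simp only [W5, List.mem_cons, List.not_mem_nil, or_false] at hw
  rcases hw with rfl | rfl | rfl | rfl | rfl | rfl | rfl | rfl | rfl | rfl | rfl
  · exact conjW0
  · exact conjW1
  · exact conjW2
  · exact conjW3
  · exact conjW4
  · exact conjW5
  · exact conjW6
  · exact conjW7
  · exact conjW8
  · exact conjW9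
  · exact conjW10

theorem xi_conj_perm : ∀ σ ∈ P5, xiC * monoC σ 0 * xiC⁻¹ ∈ Nt := by
  intro σ hσ
  simp only [P5, List.mem_cons, List.not_mem_nil, or_false] at hσ
  rcases hσ with rfl | rfl
  · exact conjP0
  · exact conjP1

/-! ### separation and rigidity -/

theorem W5_sep : ∀ i j : GolayPt, i ≠ j → ∃ w ∈ W5, w.1 i ≠ w.1 j := by
  decide +kernel

theorem card_actW (σ : ↥M24) (w : ↥golayCode) :
    (Finset.univ.filter fun i : GolayPt => (actW σ w).1 i = 1).card =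
      (Finset.univ.filter fun i : GolayPt => w.1 i = 1).card := by
  apply Finset.card_bij (fun i _ => σ.1.symm i)
  · intro i hi
    simp only [Finset.mem_filter, Finset.mem_univ, true_and] at hi ⊢
    rwa [actW_apply] at hi
  · intro a _ b _ hab
    exact σ.1.symm.injective hab
  · intro b hb
    simp only [Finset.mem_filter, Finset.mem_univ, true_and] at hb
    refine ⟨σ.1 b, ?_, Equiv.symm_apply_apply _ _⟩
    simp only [Finset.mem_filter, Finset.mem_univ, true_and]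
    rw [actW_apply, Equiv.symm_apply_apply]
    exact hb

theorem W5_weight : ∀ w ∈ W5,
    (Finset.univ.filter fun i : GolayPt => (w + oneW).1 i = 1).card ≠
      (Finset.univ.filter fun i : GolayPt => w.1 i = 1).card := by
  decide +kernel

theorem W5_rigid (σ : ↥M24) (h : ∀ w ∈ W5, actW σ w = w ∨ actW σ w = w + oneW) : σ = 1 := by
  have hfix : ∀ w ∈ W5, actW σ w = w := by
    intro w hw
    rcases h w hw with h1 | h1
    · exact h1
    · exfalso
      have hc := card_actW σ w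
      rw [h1] at hc
      exact W5_weight w hw hc
  have hpt : ∀ i : GolayPt, σ.1.symm i = i := by
    intro i
    by_contra hne
    obtain ⟨w, hw, hwne⟩ := W5_sep (σ.1.symm i) i hne
    apply hwne
    have := congrArg (fun x : ↥golayCode => x.1 i) (hfix w hw)
    simpa [actW_apply] using this
  apply Subtype.ext
  apply Equiv.ext
  intro i
  have := hpt (σ.1 i)
  rw [Equiv.symm_apply_apply] at this
  exact this.symm

/-- the finite check for `P5_rigid` on the code word number `c` -/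
def p5ok (c : ℕ) : Bool :=
  !((Nat.beq (pmAux (tblFn TP0) 24 (codeMask c)) (codeMask c) ||
      Nat.beq (pmAux (tblFn TP0) 24 (codeMask c)) (codeMask c ^^^ 0xffffff)) &&
    (Nat.beq (pmAux (tblFn TP1) 24 (codeMask c)) (codeMask c) ||
      Nat.beq (pmAux (tblFn TP1) 24 (codeMask c)) (codeMask c ^^^ 0xffffff))) ||
  Nat.beq (codeMask c) 0 || Nat.beq (codeMask c) 0xffffff

theorem p5ok_all : allBelow 4096 p5ok = true := by decide +kernel

theorem TP0_lt : ∀ i < 24, tblFn TP0 i < 24 := by decide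
theorem TP1_lt : ∀ i < 24, tblFn TP1 i < 24 := by decide

theorem oneW_eq_wordOf : oneW.1 = wordOf 0xffffff := one_eq_wordOf

theorem mask_of_actW (T T' : List ℕ) (h : okInv T T' = true) (h' : okInv T' T = true)
    (hcode : codeOK T = true) (hlt : ∀ i < 24, tblFn T i < 24) (u : ↥golayCode) (m : ℕ)
    (hm : m < 2 ^ 24) (hu : u.1 = wordOf m)
    (hh : actW (sOf T T' h h' hcode) u = u ∨ actW (sOf T T' h h' hcode) u = u + oneW) :
    pmAux (tblFn T) 24 m = m ∨ pmAux (tblFn T) 24 m = m ^^^ 0xffffff := by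
  have hact : (actW (sOf T T' h h' hcode) u).1 = wordOf (pmAux (tblFn T) 24 m) := by
    show permWord (permOfTbl T T' h h') u.1 = _
    rw [hu]
    exact permWord_wordOf _ (tblFn T) (hasTbl_permOfTbl T T' h h').2 m
  have hlt' : pmAux (tblFn T) 24 m < 2 ^ 24 := pmAux_lt _ _ _ hlt
  rcases hh with h1 | h1
  · left
    apply wordOf_injective hlt' hm
    rw [← hact, h1, hu]
  · right
    have hx : m ^^^ 0xffffff < 2 ^ 24 := Nat.xor_lt_two_pow hm (by decide)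
    apply wordOf_injective hlt' hx
    rw [← hact, h1, wordOf_xor, ← hu, ← oneW_eq_wordOf]
    rfl

theorem P5_rigid (u : ↥golayCode) (h : ∀ σ ∈ P5, actW σ u = u ∨ actW σ u = u + oneW) :
    u = 0 ∨ u = oneW := by
  obtain ⟨c, hc, hu⟩ := (mem_golayCode_iff u.1).mp u.2
  have hm : codeMask c < 2 ^ 24 := codeMask_lt c hc
  have h0 := mask_of_actW TP0 TP0i hTP0 hTP0' hTP0c TP0_lt u _ hm hu
    (h sP0 (by simp [P5]))
  have h1 := mask_of_actW TP1 TP1i hTP1 hTP1' hTP1c TP1_lt u _ hm hu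
    (h sP1 (by simp [P5]))
  have hchk := (allBelow_iff _ _).mp p5ok_all c hc
  unfold p5ok at hchk
  have hb0 : (Nat.beq (pmAux (tblFn TP0) 24 (codeMask c)) (codeMask c) ||
      Nat.beq (pmAux (tblFn TP0) 24 (codeMask c)) (codeMask c ^^^ 0xffffff)) = true := by
    rcases h0 with e | e
    · rw [Bool.or_eq_true]; left; rw [e]; exact Nat.beq_refl _
    · rw [Bool.or_eq_true]; right; rw [e]; exact Nat.beq_refl _
  have hb1 : (Nat.beq (pmAux (tblFn TP1) 24 (codeMask c)) (codeMask c) ||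
      Nat.beq (pmAux (tblFn TP1) 24 (codeMask c)) (codeMask c ^^^ 0xffffff)) = true := by
    rcases h1 with e | e
    · rw [Bool.or_eq_true]; left; rw [e]; exact Nat.beq_refl _
    · rw [Bool.or_eq_true]; right; rw [e]; exact Nat.beq_refl _
  rw [hb0, hb1] at hchk
  simp only [Bool.and_self, Bool.not_true, Bool.false_or, Bool.or_eq_true] at hchk
  rcases hchk with e | e
  · left
    apply Subtype.ext
    rw [hu, Nat.eq_of_beq_eq_true e, wordOf_zero]
    rfl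
  · right
    apply Subtype.ext
    rw [hu, Nat.eq_of_beq_eq_true e, oneW_eq_wordOf]

end Cfsg.Agent.Lib.Helper9.Co1Leaf
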